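import Groth.Agent.PLieLib.Restricted
import Mathlib.RingTheory.Ideal.Quotient.Operations

/-! The restricted enveloping algebra and its basis of ordered monomials with exponents below `p`. -/

universe u v w

open Groth.Agent.PBW Groth.Agent.PLieLib

namespace Groth.Agent.RestrictedHopf

variable {k : Type u} [Field k] {L : Type v} [LieRing L] [LieAlgebra k L]
  {ι : Type w} [LinearOrder ι] [Fintype ι] (b : Module.Basis ι k L) {p : ℕ} [Fact p.Prime] [CharP k p]
  (φ : PLie.PMap k p L)

attribute [local instance] LieRing.ofAssociativeRing

local notation "U" => UniversalEnvelopingAlgebra k L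

/-- The structure map into the enveloping algebra. -/
noncomputable def eU (k : Type u) [Field k] (L : Type v) [LieRing L] [LieAlgebra k L] :
    L →ₗ[k] UniversalEnvelopingAlgebra k L := (UniversalEnvelopingAlgebra.ι k).toLinearMap

theorem eU_lie (x z : L) : eU k L ⁅x, z⁆ = eU k L x * eU k L z - eU k L z * eU k L x :=
  (LieHom.map_lie (UniversalEnvelopingAlgebra.ι k) x z).trans (LieRing.of_associative_ring_bracket _ _)

/-- The defining relations. -/
noncomputable def rel (i : ι) : U := eU k L (b i) ^ p - eU k L (φ (b i))

omit [LinearOrder ι] [Fintype ι] in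
theorem rel_mem_center (i : ι) : rel b φ i ∈ Subalgebra.center k U := by
  have hcom : ∀ (n : ℕ) (x a : L), (com k (eU k L x) ^ n) (eU k L a) = eU k L ((LieAlgebra.ad k L x ^ n) a) := by
    intro n
    induction n with
    | zero => intros; simp
    | succ n ih =>
      intro x a
      rw [pow_succ', pow_succ', Module.End.mul_apply, Module.End.mul_apply, ih, com_apply, LieAlgebra.ad_apply, eU_lie]
  rw [Subalgebra.mem_center_iff]
  intro u
  have hgen : ∀ a : L, eU k L a * rel b φ i = rel b φ i * eU k L a := fun a => by
    have h1 : com k (eU k L (b i) ^ p) (eU k L a) = eU k L ⁅φ (b i), a⁆ := by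
      rw [← com_pow_char (R := k) p, hcom, ← φ.ad_map, LieAlgebra.ad_apply]
    rw [com_apply, eU_lie] at h1
    simp only [rel, sub_mul, mul_sub]
    rw [eq_comm, ← sub_eq_zero, sub_sub_sub_comm, h1, sub_self]
  obtain ⟨t, rfl⟩ : ∃ t, UniversalEnvelopingAlgebra.mkAlgHom k L t = u :=
    RingCon.mkₐ_surjective (α := k) (c := UniversalEnvelopingAlgebra.ringCon k L) u
  induction t using TensorAlgebra.induction with
  | algebraMap r => rw [AlgHom.commutes]; exact Algebra.commutes r _
  | ι x => exact hgen x
  | mul a c ha hc => rw [map_mul, mul_assoc, hc, ← mul_assoc, ha, mul_assoc]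
  | add a c ha hc => rw [map_add, add_mul, mul_add, ha, hc]

/-- The ideal of relations. -/
noncomputable def resIdeal : Ideal U := Ideal.span (Set.range (rel b φ))

instance : (resIdeal b φ).IsTwoSided := ⟨fun {a} c ha => by
  induction ha using Submodule.span_induction with
  | mem x hx =>
    obtain ⟨i, rfl⟩ := hx
    rw [← (Subalgebra.mem_center_iff.mp (rel_mem_center b φ i))]
    exact Ideal.mul_mem_left _ c (Ideal.subset_span ⟨i, rfl⟩)
  | zero => simp
  | add x y _ _ hx hy => rw [add_mul]; exact add_mem hx hy
  | smul r x _ hx => rw [smul_eq_mul, mul_assoc]; exact Ideal.mul_mem_left _ r hx⟩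

/-- The restricted enveloping algebra. -/
abbrev Env : Type _ := U ⧸ resIdeal b φ

/-- The quotient map. -/
noncomputable def mk : U →ₐ[k] Env b φ := Ideal.Quotient.mkₐ k (resIdeal b φ)

/-- Exponent vectors below `p`. -/
abbrev Small (ι : Type w) [DecidableEq ι] (p : ℕ) : Type w := {m : Multiset ι // ∀ i, m.count i < p}

theorem linearIndependent_small :
    LinearIndependent k (fun m : Small ι p => mk b φ (mono b (wordOf m.1))) := by
  classical
  have hp : p.Prime := Fact.out
  let z := rel b φ
  let zc : ι → Subalgebra.center k U := fun i => ⟨z i, rel_mem_center b φ i⟩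
  let F : Multiset ι → U := fun m => ((((qPart p m).map zc).prod : Subalgebra.center k U) : U) * mono b (wordOf (rPart p m))
  let E : U →ₗ[k] (W ι →₀ k) := LinearMap.applyₗ (Finsupp.single (nil : W ι) (1 : k)) ∘ₗ (envAct b).toLinearMap
  have hlead : ∀ (q r : Multiset ι),
      E ((((q.map zc).prod : Subalgebra.center k U) : U) * mono b (wordOf r)) -
        Finsupp.single (wordOf (p • q + r)) 1 ∈ Finsupp.supported k k (below ι (p • q + r).card) := by
    intro q r
    induction q using Multiset.induction with
    | empty =>
      have : E (mono b (wordOf r)) = Finsupp.single (wordOf r) 1 := envAct_mono b _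
      simp [this]
    | cons i q ih =>
      rw [Multiset.map_cons, Multiset.prod_cons, MulMemClass.coe_mul, mul_assoc]
      set v := E ((((q.map zc).prod : Subalgebra.center k U) : U) * mono b (wordOf r)) with hv
      have hzv : E ((zc i : U) * ((((q.map zc).prod : Subalgebra.center k U) : U) * mono b (wordOf r))) =
          (rho b (b i) ^ p) v - rho b (φ (b i)) v := by
        show envAct b ((eU k L (b i) ^ p - eU k L (φ (b i))) * _) _ = _
        rw [map_mul, map_sub, map_pow]
        show (envAct b (UniversalEnvelopingAlgebra.ι k (b i)) ^ p - envAct b (UniversalEnvelopingAlgebra.ι k (φ (b i)))) _ = _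
        rw [envAct_ι, envAct_ι]
        rfl
      rw [hzv]
      have hvb : v ∈ Finsupp.supported k k (below ι ((p • q + r).card + 1)) := by
        have h1 : Finsupp.single (wordOf (p • q + r)) (1 : k) ∈ Finsupp.supported k k (below ι ((p • q + r).card + 1)) :=
          Finsupp.single_mem_supported k 1 (by simp [below, length_wordOf])
        have h2 := add_mem (supported_below_mono (Nat.le_succ _) ih) h1
        rwa [sub_add_cancel] at h2
      have hsum : p • (i ::ₘ q) + r = p • q + r + Multiset.replicate p i := by
        rw [← Multiset.singleton_add, nsmul_add, Multiset.nsmul_singleton]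
        abel
      have hp2 := hp.two_le
      rw [hsum, sub_right_comm]
      refine sub_mem ?_ (supported_below_mono ?_ (rho_mem_below b _ _ hvb))
      · have h3 := pow_rho_lead b i p ih
        rw [Multiset.card_add _ (Multiset.replicate p i), Multiset.card_replicate]
        exact h3
      · rw [Multiset.card_add _ (Multiset.replicate p i), Multiset.card_replicate]
        omega
  have hEF : ∀ m, E (F m) - Finsupp.single (wordOf m) 1 ∈ Finsupp.supported k k (below ι m.card) := fun m => by
    have := hlead (qPart p m) (rPart p m)
    rwa [decomp] at this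
  have hind : LinearIndependent k F := LinearIndependent.of_comp E (linearIndependent_of_lead _ hEF)
  have hspan : ∀ u : U, u ∈ Submodule.span k (Set.range F) := by
    intro u
    have h : E u ∈ (Submodule.span k (Set.range F)).map E := by
      rw [Submodule.map_span, ← Set.range_comp, show Submodule.span k (Set.range (E ∘ F)) = ⊤ from
        span_of_lead (fun m => E (F m)) hEF]
      trivial
    obtain ⟨u', hu', hu''⟩ := h
    rwa [(envEquiv b).symm.injective hu''] at hu'
  have hzF : ∀ i m, z i * F m = F (m + Multiset.replicate p i) := fun i m => by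
    simp only [F, qPart_add p hp.pos, rPart_add, Multiset.map_cons, Multiset.prod_cons, MulMemClass.coe_mul, mul_assoc, zc]
  let red : Set (Multiset ι) := {m | qPart p m ≠ 0}
  have hJR : ∀ u ∈ resIdeal b φ, u ∈ Submodule.span k (F '' red) := by
    intro u hu
    obtain ⟨c, rfl⟩ := (Submodule.mem_span_range_iff_exists_fun _).mp hu
    refine Submodule.sum_mem _ fun i _ => ?_
    rw [smul_eq_mul, (Subalgebra.mem_center_iff.mp (rel_mem_center b φ i)) (c i)]
    generalize c i = t
    induction hspan t using Submodule.span_induction with
    | mem x hx =>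
      obtain ⟨m, rfl⟩ := hx
      exact Submodule.subset_span ⟨_, (by simp [red, qPart_add p hp.pos]), (hzF i m).symm⟩
    | zero => simp
    | add a c _ _ ha hc => rw [mul_add]; exact add_mem ha hc
    | smul r a _ ha => rw [mul_smul_comm]; exact Submodule.smul_mem _ r ha
  have hq : ∀ m : Small ι p, qPart p m.1 = 0 := fun m => by
    ext a
    rw [count_qPart, Multiset.count_zero]
    exact Nat.div_eq_of_lt (m.2 a)
  have hFm : ∀ m : Small ι p, F m.1 = mono b (wordOf m.1) := fun m => by
    have hr : rPart p m.1 = m.1 := by rw [rPart, hq, nsmul_zero, tsub_zero]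
    simp only [F, hq, hr, Multiset.map_zero, Multiset.prod_zero, OneMemClass.coe_one, one_mul]
  have hsub : LinearIndependent k (fun m : Small ι p => F m.1) := hind.comp _ Subtype.val_injective
  rw [show (fun m : Small ι p => mk b φ (mono b (wordOf m.1))) = (mk b φ).toLinearMap ∘ fun m : Small ι p => F m.1 from
    funext fun m => by simp [hFm]]
  refine hsub.map ?_
  rw [Submodule.disjoint_def]
  intro u hu hu'
  have h1 : u ∈ resIdeal b φ := Ideal.Quotient.eq_zero_iff_mem.mp (LinearMap.mem_ker.mp hu')
  rw [show (fun m : Small ι p => F m.1) = F ∘ Subtype.val from rfl, Set.range_comp, Subtype.range_coe_subtype] at hu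
  refine (Submodule.disjoint_def.mp (hind.disjoint_span_image ?_)) u hu (hJR u h1)
  rw [Set.disjoint_left]
  intro m hm hm'
  exact hm' (hq ⟨m, hm⟩)

theorem span_small : Submodule.span k (Set.range fun m : Small ι p => mk b φ (mono b (wordOf m.1))) = ⊤ := by
  classical
  have hp : p.Prime := Fact.out
  have key : ∀ N, ∀ l : W ι, l.1.length = N →
      mk b φ (mono b l) ∈ Submodule.span k (Set.range fun m : Small ι p => mk b φ (mono b (wordOf m.1))) := by
    intro N
    induction N using Nat.strong_induction_on with
    | _ N ih =>
      intro l hl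
      by_cases hs : ∀ i, (l.1 : Multiset ι).count i < p
      · exact Submodule.subset_span ⟨⟨_, hs⟩, by simp [wordOf_coe]⟩
      push Not at hs
      obtain ⟨i, hi⟩ := hs
      set m : Multiset ι := (l.1 : Multiset ι) - Multiset.replicate p i with hm
      have hle : Multiset.replicate p i ≤ (l.1 : Multiset ι) := Multiset.le_count_iff_replicate_le.mp hi
      have hadd : m + Multiset.replicate p i = (l.1 : Multiset ι) := tsub_add_cancel_of_le hle
      have hcard : m.card + p = N := by
        have := congrArg Multiset.card hadd
        rw [Multiset.card_add, Multiset.card_replicate, Multiset.coe_card, hl] at this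
        exact this
      have h1 := pow_rho_lead b i p (v := Finsupp.single (wordOf m) 1) (m := m) (by simp)
      rw [hadd, wordOf_coe, hcard] at h1
      have h2 : (rho b (φ (b i))) (Finsupp.single (wordOf m) 1) ∈ Finsupp.supported k k (below ι (m.card + 2)) :=
        rho_mem_below b _ _ (Finsupp.single_mem_supported k 1 (by simp [below, length_wordOf]))
      have h3 : ∀ (M : ℕ) (v : W ι →₀ k), M ≤ N → v ∈ Finsupp.supported k k (below ι M) →
          mk b φ (envEquiv b v) ∈ Submodule.span k (Set.range fun m : Small ι p => mk b φ (mono b (wordOf m.1))) := by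
        intro M v hM hv
        rw [← Finsupp.sum_single v, map_finsuppSum, map_finsuppSum]
        refine Submodule.sum_mem _ fun l' hl' => ?_
        show mk b φ (envEquiv b (Finsupp.single l' (v l'))) ∈ _
        rw [← mul_one (v l'), ← smul_eq_mul, ← Finsupp.smul_single, map_smul, map_smul]
        refine Submodule.smul_mem _ _ ?_
        have e : envEquiv b (Finsupp.single l' (1 : k)) = mono b l' := by
          rw [← basis_apply b l']
          rfl
        rw [e]
        have hlt : l'.1.length < M := hv hl'
        exact ih _ (by omega) l' rfl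
      -- `mono l` is congruent to lower monomials
      have hv : ∀ u : U, envEquiv b (envAct b u (Finsupp.single nil 1)) = u := fun u => (envEquiv b).apply_symm_apply u
      have hw : envAct b (rel b φ i * mono b (wordOf m)) (Finsupp.single nil 1) =
          (rho b (b i) ^ p) (Finsupp.single (wordOf m) 1) - rho b (φ (b i)) (Finsupp.single (wordOf m) 1) := by
        rw [map_mul, Module.End.mul_apply, envAct_mono, rel, map_sub, map_pow]
        show (envAct b (UniversalEnvelopingAlgebra.ι k (b i)) ^ p - envAct b (UniversalEnvelopingAlgebra.ι k (φ (b i)))) _ = _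
        rw [envAct_ι, envAct_ι]
        rfl
      have hz : mk b φ (rel b φ i * mono b (wordOf m)) = 0 := by
        rw [map_mul, show mk b φ (rel b φ i) = 0 from Ideal.Quotient.eq_zero_iff_mem.mpr (Ideal.subset_span ⟨i, rfl⟩),
          zero_mul]
      rw [← hv (rel b φ i * mono b (wordOf m)), hw] at hz
      have hl' : envEquiv b (Finsupp.single l (1 : k)) = mono b l := by rw [← basis_apply b l]; rfl
      have e : mk b φ (mono b l) = mk b φ (envEquiv b (rho b (φ (b i)) (Finsupp.single (wordOf m) 1))) -
          mk b φ (envEquiv b ((rho b (b i) ^ p) (Finsupp.single (wordOf m) 1) - Finsupp.single l 1)) := by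
        rw [map_sub, map_sub] at hz ⊢
        rw [hl']
        linear_combination (norm := abel) hz
      rw [e]
      refine sub_mem (h3 _ _ ?_ h2) (h3 _ _ le_rfl h1)
      have := hp.two_le
      omega
  refine eq_top_iff.mpr fun x _ => ?_
  obtain ⟨u, rfl⟩ := Ideal.Quotient.mkₐ_surjective k (resIdeal b φ) x
  rw [← (PBW.basis b).linearCombination_repr u, Finsupp.linearCombination_apply, map_finsuppSum]
  refine Submodule.sum_mem _ fun l _ => ?_
  show (Ideal.Quotient.mkₐ k (resIdeal b φ)) (_ • PBW.basis b l) ∈ _
  rw [map_smul, basis_apply]
  exact Submodule.smul_mem _ _ (key _ l rfl)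

/-- The basis of ordered monomials with exponents below `p`. -/
noncomputable def smallBasis : Module.Basis (Small ι p) k (Env b φ) :=
  Module.Basis.mk (linearIndependent_small b φ) (span_small b φ).ge

theorem smallBasis_apply (m : Small ι p) : smallBasis b φ m = mk b φ (mono b (wordOf m.1)) := by
  simp [smallBasis]

instance : Finite (Small ι p) := by
  refine Finite.of_injective (fun m : Small ι p => fun i => (⟨m.1.count i, m.2 i⟩ : Fin p)) fun m m' h => ?_
  exact Subtype.ext (Multiset.ext.mpr fun i => by simpa using congrFun h i)

instance : Module.Finite k (Env b φ) := Module.Finite.of_basis (smallBasis b φ)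

end Groth.Agent.RestrictedHopf
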