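import Groth.Prelude.Def_CartDual
import Groth.Agent.GrpSchLib.DualPairing
import Mathlib.RingTheory.Derivation.Lie
import Mathlib.Tactic.LinearCombination

/-! Left invariant derivations of the dual of a finite cocommutative Hopf algebra are its primitive elements. -/

open TensorProduct WithConv

universe u v

namespace Groth.Agent.RestrictedHopf

variable {k : Type u} [Field k] {E : Type v} [Ring E] [HopfAlgebra k E] [Coalgebra.IsCocomm k E] [Module.Finite k E]

local notation "D" => CartDual.D k E

/-- Precompose a form with right multiplication. -/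
noncomputable def rmul (t : E) : D →ₗ[k] D :=
  (CartDual.toDual k E).symm.toLinearMap ∘ₗ (LinearMap.mulRight k t).dualMap ∘ₗ (CartDual.toDual k E).toLinearMap

omit [Coalgebra.IsCocomm k E] [Module.Finite k E] in
theorem rmul_apply (t a : E) (φ : D) : (rmul t φ).ofConv a = φ.ofConv (a * t) := rfl

omit [Coalgebra.IsCocomm k E] [Module.Finite k E] in
theorem rmul_mul_of_primitive {t : E} (ht : Coalgebra.comul t = t ⊗ₜ[k] (1 : E) + (1 : E) ⊗ₜ[k] t) (φ ψ : D) :
    rmul t (φ * ψ) = φ * rmul t ψ + rmul t φ * ψ := by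
  refine WithConv.ofConv_injective (LinearMap.ext fun a => ?_)
  rw [rmul_apply, LinearMap.convMul_apply, Bialgebra.comul_mul, ht, WithConv.ofConv_add, LinearMap.add_apply,
    LinearMap.convMul_apply, LinearMap.convMul_apply]
  generalize Coalgebra.comul (R := k) a = s
  induction s using TensorProduct.induction_on with
  | zero => simp
  | tmul x y => simp [mul_add, Algebra.TensorProduct.tmul_mul_tmul, rmul_apply, add_comm]
  | add s s' hs hs' =>
    simp only [add_mul, map_add] at *
    linear_combination hs + hs'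

/-- The derivation attached to a primitive element. -/
noncomputable def primDeriv {t : E} (ht : Coalgebra.comul t = t ⊗ₜ[k] (1 : E) + (1 : E) ⊗ₜ[k] t) : Derivation k D D :=
  Derivation.mk' (rmul t) fun φ ψ => by
    rw [rmul_mul_of_primitive ht, smul_eq_mul, smul_eq_mul, mul_comm (rmul t φ)]

omit [Module.Finite k E] in
theorem primDeriv_apply {t : E} (ht : Coalgebra.comul t = t ⊗ₜ[k] (1 : E) + (1 : E) ⊗ₜ[k] t) (φ : D) :
    primDeriv ht φ = rmul t φ := rfl

theorem leftInvariant_rmul (t : E) :
    CoalgebraStruct.comul (R := k) (A := D) ∘ₗ rmul t =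
      LinearMap.lTensor D (rmul t) ∘ₗ CoalgebraStruct.comul (R := k) (A := D) := by
  refine LinearMap.ext fun φ => (CartDual.ev₂ k E).injective (TensorProduct.ext' fun a b => ?_)
  simp only [LinearMap.comp_apply]
  have h : ∀ z : D ⊗[k] D, CartDual.ev₂ k E (LinearMap.lTensor D (rmul t) z) (a ⊗ₜ b) = CartDual.ev₂ k E z (a ⊗ₜ (b * t)) := by
    intro z
    induction z using TensorProduct.induction_on with
    | zero => simp
    | tmul x y => simp [CartDual.coe_apply, rmul_apply]
    | add x y hx hy => simp only [map_add, LinearMap.add_apply, hx, hy]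
  rw [h, CartDual.ev₂_coalgebra_comul_tmul, CartDual.ev₂_coalgebra_comul_tmul, CartDual.coe_apply, rmul_apply,
    mul_assoc]

theorem exists_primitive_of_leftInvariant (d : Derivation k D D)
    (hd : CoalgebraStruct.comul (R := k) (A := D) ∘ₗ d.toLinearMap =
      LinearMap.lTensor D d.toLinearMap ∘ₗ CoalgebraStruct.comul (R := k) (A := D)) :
    ∃ t : E, Coalgebra.comul t = t ⊗ₜ[k] (1 : E) + (1 : E) ⊗ₜ[k] t ∧ d.toLinearMap = rmul t := by
  obtain ⟨t, ht, -⟩ := GrpSchLib.existsUnique_eval (R := k) (A := E)
    ((LinearMap.applyₗ (1 : E) : Module.Dual k E →ₗ[k] k) ∘ₗ (CartDual.toDual k E).toLinearMap ∘ₗ d.toLinearMap)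
  have ht' : ∀ φ : D, (d φ).ofConv 1 = φ.ofConv t := ht
  refine ⟨t, GrpSchLib.eq_of_forall_ev₂ fun φ ψ => ?_, LinearMap.ext fun φ => WithConv.ofConv_injective (LinearMap.ext fun a => ?_)⟩
  · rw [← GrpSchLib.convMul_eq_ev₂, CartDual.coe_apply, ← ht', Derivation.leibniz, map_add, CartDual.ev₂_tmul,
      CartDual.ev₂_tmul, CartDual.coe_apply, CartDual.coe_apply, CartDual.coe_apply, CartDual.coe_apply, ← ht' φ, ← ht' ψ,
      WithConv.ofConv_add, LinearMap.add_apply, smul_eq_mul, smul_eq_mul, LinearMap.convMul_apply,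
      LinearMap.convMul_apply, Bialgebra.comul_one, Algebra.TensorProduct.one_def]
    simp
    ring
  · have h := congrArg (fun z => CartDual.ev₂ k E z (a ⊗ₜ[k] (1 : E))) (LinearMap.congr_fun hd φ)
    simp only [LinearMap.comp_apply, CartDual.ev₂_coalgebra_comul_tmul, mul_one, CartDual.coe_apply] at h
    have h2 : ∀ z : D ⊗[k] D, CartDual.ev₂ k E (LinearMap.lTensor D d.toLinearMap z) (a ⊗ₜ 1) =
        CartDual.ev₂ k E z (a ⊗ₜ t) := by
      intro z
      induction z using TensorProduct.induction_on with
      | zero => simp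
      | tmul x y => simp [CartDual.coe_apply, ht']
      | add x y hx hy => simp only [map_add, LinearMap.add_apply, hx, hy]
    rw [h2, CartDual.ev₂_coalgebra_comul_tmul, CartDual.coe_apply] at h
    rw [rmul_apply]
    exact h

omit [Module.Finite k E] in
/-- A form killed at one has vanishing `p`th power when the algebra is generated by primitive elements. -/
theorem pow_eq_zero_of_generated (p : ℕ) [CharP k p] (hp : p ≠ 0)
    (hgen : Algebra.adjoin k {t : E | Coalgebra.comul t = t ⊗ₜ[k] (1 : E) + (1 : E) ⊗ₜ[k] t} = ⊤)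
    (f : D) (hf : f.ofConv 1 = 0) : f ^ p = 0 := by
  have h1 : (f ^ p).ofConv 1 = 0 := by
    have : ∀ n : ℕ, (f ^ n).ofConv 1 = f.ofConv 1 ^ n := by
      intro n
      induction n with
      | zero => simp [LinearMap.convOne_apply]
      | succ n ih => rw [pow_succ, LinearMap.convMul_apply, Bialgebra.comul_one, Algebra.TensorProduct.one_def]; simp [ih, pow_succ]
    rw [this, hf, zero_pow hp]
  have hder : ∀ (u t : E), Coalgebra.comul t = t ⊗ₜ[k] (1 : E) + (1 : E) ⊗ₜ[k] t → (f ^ p).ofConv (u * t) = 0 := by
    intro u t ht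
    have hz : (p : D) = 0 := by
      rw [← map_natCast (algebraMap k D) p, CharP.cast_eq_zero k p, map_zero]
    have h := (primDeriv ht).leibniz_pow f p
    rw [smul_eq_mul, nsmul_eq_mul, hz, zero_mul] at h
    exact congrArg (fun z : D => z.ofConv u) h
  refine WithConv.ofConv_injective (LinearMap.ext fun w => ?_)
  suffices H : ∀ u, (f ^ p).ofConv (u * w) = (f ^ p).ofConv u * Coalgebra.counit (R := k) w by
    have := H 1
    rw [one_mul, h1, zero_mul] at this
    exact this
  have hw : w ∈ Algebra.adjoin k {t : E | Coalgebra.comul t = t ⊗ₜ[k] (1 : E) + (1 : E) ⊗ₜ[k] t} := hgen ▸ Algebra.mem_top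
  induction hw using Algebra.adjoin_induction with
  | mem t ht =>
    intro u
    have hε : Coalgebra.counit (R := k) t = 0 := by
      have h := congrArg (fun z => Coalgebra.counit (R := k) (TensorProduct.lid k E z))
        (Coalgebra.rTensor_counit_comul (R := k) t)
      rw [show Coalgebra.comul (R := k) t = _ from ht] at h
      simp [map_add] at h
      linear_combination h
    rw [hε, mul_zero, hder u t ht]
  | algebraMap r =>
    intro u
    rw [Algebra.algebraMap_eq_smul_one, mul_smul_comm, mul_one, map_smul, map_smul, Bialgebra.counit_one, smul_eq_mul,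
      smul_eq_mul, mul_one, mul_comm]
  | add a c _ _ ha hc => intro u; rw [mul_add, map_add, map_add, ha, hc, mul_add]
  | mul a c _ _ ha hc => intro u; rw [← mul_assoc, hc, ha, Bialgebra.counit_mul, mul_assoc]

end Groth.Agent.RestrictedHopf
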