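import Groth.Agent.RestrictedHopf.Basis
import Groth.Prelude.Def_AlphaP
import Mathlib.RingTheory.HopfAlgebra.Basic
import Mathlib.Algebra.Algebra.Opposite
import Mathlib.RingTheory.TensorProduct.Maps

/-! The cocommutative Hopf algebra structure of the restricted enveloping algebra. -/

universe u v w

open Groth.Agent.PBW Groth.Agent.PLieLib TensorProduct

namespace Groth.Agent.RestrictedHopf

variable {k : Type u} [Field k] {L : Type v} [LieRing L] [LieAlgebra k L]
  {ι : Type w} [LinearOrder ι] [Fintype ι] (b : Module.Basis ι k L) {p : ℕ} [Fact p.Prime] [CharP k p]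
  (φ : PLie.PMap k p L)

attribute [local instance] LieRing.ofAssociativeRing

local notation "E" => Env b φ

/-- The structure map into the restricted enveloping algebra. -/
noncomputable def e : L →ₗ[k] E := (mk b φ).toLinearMap ∘ₗ eU k L

omit [LinearOrder ι] [Fintype ι] in
theorem e_apply (x : L) : e b φ x = mk b φ (eU k L x) := rfl

omit [LinearOrder ι] [Fintype ι] in
theorem e_lie (x y : L) : e b φ ⁅x, y⁆ = e b φ x * e b φ y - e b φ y * e b φ x := by
  simp [e_apply, eU_lie]

omit [LinearOrder ι] [Fintype ι] in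
theorem e_pow (x : L) : e b φ (φ x) = e b φ x ^ p := by
  have hp : p.Prime := Fact.out
  induction b.mem_span x using Submodule.span_induction with
  | mem x hx =>
    obtain ⟨i, rfl⟩ := hx
    rw [e_apply, e_apply, ← map_pow, eq_comm, ← sub_eq_zero, ← map_sub]
    exact Ideal.Quotient.eq_zero_iff_mem.mpr (Ideal.subset_span ⟨i, rfl⟩)
  | zero =>
    have := φ.map_smul 0 0
    rw [zero_smul, zero_pow hp.ne_zero, zero_smul] at this
    rw [show φ 0 = 0 from this, map_zero, zero_pow hp.ne_zero]
  | add a c _ _ ha hc =>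
    rw [show φ (a + c) = φ a + φ c - PLie.jacobson k p a c from φ.map_add a c,
      map_sub, map_add, jacobson_assoc (e b φ) (e_lie b φ), ha, hc, map_add]
    abel
  | smul r a _ ha =>
    rw [show φ (r • a) = r ^ p • φ a from φ.map_smul r a, map_smul, ha, map_smul, _root_.smul_pow]

omit [LinearOrder ι] [Fintype ι] in
theorem algHom_ext {B : Type*} [Semiring B] [Algebra k B] {f g : E →ₐ[k] B} (h : ∀ x, f (e b φ x) = g (e b φ x)) :
    f = g := by
  have h1 : f.comp (mk b φ) = g.comp (mk b φ) := by
    refine RingCon.Quotient.hom_extₐ (TensorAlgebra.hom_ext (LinearMap.ext fun x => ?_))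
    exact h x
  refine AlgHom.ext fun u => ?_
  obtain ⟨u, rfl⟩ := Ideal.Quotient.mkₐ_surjective k (resIdeal b φ) u
  exact AlgHom.congr_fun h1 u

omit [LinearOrder ι] [Fintype ι] in
theorem env_induction {P : E → Prop} (hs : ∀ r, P (algebraMap k E r)) (hL : ∀ x, P (e b φ x))
    (hm : ∀ u v, P u → P v → P (u * v)) (ha : ∀ u v, P u → P v → P (u + v)) (u : E) : P u := by
  obtain ⟨u, rfl⟩ := Ideal.Quotient.mkₐ_surjective k (resIdeal b φ) u
  obtain ⟨t, rfl⟩ : ∃ t, UniversalEnvelopingAlgebra.mkAlgHom k L t = u :=
    RingCon.mkₐ_surjective (α := k) (c := UniversalEnvelopingAlgebra.ringCon k L) u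
  induction t using TensorAlgebra.induction with
  | algebraMap r => simp only [AlgHom.commutes]; exact hs r
  | ι x => exact hL x
  | mul a c ha hc => simp only [map_mul]; exact hm _ _ ha hc
  | add a c hac hc => simp only [map_add]; exact ha _ _ hac hc

/-- Extend a restricted morphism to the restricted enveloping algebra. -/
noncomputable def lift {B : Type*} [Ring B] [Algebra k B] (f : L →ₗ[k] B)
    (hl : ∀ x y, f ⁅x, y⁆ = f x * f y - f y * f x) (hp : ∀ i, f (φ (b i)) = f (b i) ^ p) : E →ₐ[k] B :=
  Ideal.Quotient.liftₐ (resIdeal b φ)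
    (UniversalEnvelopingAlgebra.lift k
      ({ f with map_lie' := fun {x y} => (hl x y).trans (LieRing.of_associative_ring_bracket _ _).symm } : L →ₗ⁅k⁆ B))
    (fun a ha => by
      induction ha using Submodule.span_induction with
      | mem x hx =>
        obtain ⟨i, rfl⟩ := hx
        rw [rel, map_sub, map_pow]
        show UniversalEnvelopingAlgebra.lift k _ (UniversalEnvelopingAlgebra.ι k (b i)) ^ p -
          UniversalEnvelopingAlgebra.lift k _ (UniversalEnvelopingAlgebra.ι k (φ (b i))) = 0
        rw [UniversalEnvelopingAlgebra.lift_ι_apply, UniversalEnvelopingAlgebra.lift_ι_apply]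
        exact sub_eq_zero.mpr (hp i).symm
      | zero => exact map_zero _
      | add x y _ _ hx hy => rw [map_add, hx, hy, add_zero]
      | smul r x _ hx => rw [smul_eq_mul, map_mul, hx, mul_zero])

omit [LinearOrder ι] [Fintype ι] in
theorem lift_e {B : Type*} [Ring B] [Algebra k B] (f : L →ₗ[k] B)
    (hl : ∀ x y, f ⁅x, y⁆ = f x * f y - f y * f x) (hp : ∀ i, f (φ (b i)) = f (b i) ^ p) (x : L) :
    lift b φ f hl hp (e b φ x) = f x :=
  UniversalEnvelopingAlgebra.lift_ι_apply k _ x

/-- The primitive embedding into the tensor square. -/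
noncomputable def prim : L →ₗ[k] E ⊗[k] E :=
  (Algebra.TensorProduct.includeLeft : E →ₐ[k] E ⊗[k] E).toLinearMap ∘ₗ e b φ +
    (Algebra.TensorProduct.includeRight : E →ₐ[k] E ⊗[k] E).toLinearMap ∘ₗ e b φ

omit [LinearOrder ι] [Fintype ι] in
theorem prim_apply (x : L) : prim b φ x = e b φ x ⊗ₜ[k] 1 + 1 ⊗ₜ[k] e b φ x := rfl

/-- The comultiplication. -/
noncomputable def comulEnv : E →ₐ[k] E ⊗[k] E :=
  lift b φ (prim b φ)
    (fun x y => by
      simp only [prim_apply, e_lie, TensorProduct.sub_tmul, TensorProduct.tmul_sub, add_mul, mul_add,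
        Algebra.TensorProduct.tmul_mul_tmul, one_mul, mul_one]
      abel)
    (fun i => by
      simp only [prim_apply, e_pow]
      have hc : Commute (e b φ (b i) ⊗ₜ[k] (1 : E)) ((1 : E) ⊗ₜ[k] e b φ (b i)) := by
        simp [Commute, SemiconjBy, Algebra.TensorProduct.tmul_mul_tmul]
      obtain ⟨r, hr⟩ := hc.exists_add_pow_prime_eq (Fact.out : p.Prime)
      rw [hr, AlphaP.natCast_eq_zero p k (E ⊗[k] E), zero_mul, zero_mul, zero_mul, add_zero,
        Algebra.TensorProduct.tmul_pow, Algebra.TensorProduct.tmul_pow, one_pow])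

/-- The counit. -/
noncomputable def counitEnv : E →ₐ[k] k :=
  lift b φ 0 (fun x y => by simp) (fun i => by simp [(Fact.out : p.Prime).ne_zero])

omit [LinearOrder ι] [Fintype ι] in
theorem comulEnv_e (x : L) : comulEnv b φ (e b φ x) = e b φ x ⊗ₜ[k] 1 + 1 ⊗ₜ[k] e b φ x := lift_e b φ _ _ _ x

omit [LinearOrder ι] [Fintype ι] in
theorem counitEnv_e (x : L) : counitEnv b φ (e b φ x) = 0 := lift_e b φ _ _ _ x

noncomputable instance instBialgebra : Bialgebra k E :=
  Bialgebra.ofAlgHom (comulEnv b φ) (counitEnv b φ)
    (algHom_ext b φ fun x => by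
      simp [comulEnv_e, TensorProduct.add_tmul, TensorProduct.tmul_add, Algebra.TensorProduct.one_def, add_assoc])
    (algHom_ext b φ fun x => by simp [comulEnv_e, counitEnv_e])
    (algHom_ext b φ fun x => by simp [comulEnv_e, counitEnv_e])

omit [LinearOrder ι] [Fintype ι] in
theorem comul_e (x : L) : Coalgebra.comul (R := k) (e b φ x) = e b φ x ⊗ₜ[k] 1 + 1 ⊗ₜ[k] e b φ x := comulEnv_e b φ x

omit [LinearOrder ι] [Fintype ι] in
theorem counit_e (x : L) : Coalgebra.counit (R := k) (e b φ x) = 0 := counitEnv_e b φ x

/-- The antipode as a map to the opposite algebra. -/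
noncomputable def antipodeOp : E →ₐ[k] Eᵐᵒᵖ :=
  lift b φ ((MulOpposite.opLinearEquiv k).toLinearMap ∘ₗ (-e b φ))
    (fun x y => by
      simp only [LinearMap.comp_apply, LinearMap.neg_apply, LinearEquiv.coe_coe, MulOpposite.coe_opLinearEquiv, e_lie]
      rw [← MulOpposite.op_mul, ← MulOpposite.op_mul, ← MulOpposite.op_sub]
      congr 1
      simp only [neg_mul_neg, neg_sub])
    (fun i => by
      simp only [LinearMap.comp_apply, LinearMap.neg_apply, LinearEquiv.coe_coe, MulOpposite.coe_opLinearEquiv, e_pow]
      rw [← MulOpposite.op_pow, neg_pow (e b φ (b i)), show ((-1 : E) ^ p) = algebraMap k E ((-1) ^ p) by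
        simp, neg_one_pow_char k p]
      simp)

/-- The antipode. -/
noncomputable def antipodeEnv : E →ₗ[k] E := (MulOpposite.opLinearEquiv k).symm.toLinearMap ∘ₗ (antipodeOp b φ).toLinearMap

omit [LinearOrder ι] [Fintype ι] in
theorem antipodeEnv_e (x : L) : antipodeEnv b φ (e b φ x) = -e b φ x := by
  show MulOpposite.unop (antipodeOp b φ (e b φ x)) = _
  rw [antipodeOp, lift_e]
  rfl

omit [LinearOrder ι] [Fintype ι] in
theorem antipodeEnv_mul (u v : E) : antipodeEnv b φ (u * v) = antipodeEnv b φ v * antipodeEnv b φ u := by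
  show MulOpposite.unop (antipodeOp b φ (u * v)) = _
  rw [map_mul, MulOpposite.unop_mul]
  rfl

omit [LinearOrder ι] [Fintype ι] in
theorem antipodeEnv_algebraMap (r : k) : antipodeEnv b φ (algebraMap k E r) = algebraMap k E r := by
  show MulOpposite.unop (antipodeOp b φ (algebraMap k E r)) = _
  rw [AlgHom.commutes]
  rfl

omit [LinearOrder ι] [Fintype ι] in
theorem antipodeEnv_one : antipodeEnv b φ 1 = 1 := by
  simpa using antipodeEnv_algebraMap b φ 1

omit [LinearOrder ι] [Fintype ι] in
theorem mul_antipodeEnv_rTensor (u : E) : LinearMap.mul' k E ((antipodeEnv b φ).rTensor E (comulEnv b φ u)) =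
    algebraMap k E (counitEnv b φ u) := by
  induction u using env_induction b φ with
  | hs r => simp [Algebra.TensorProduct.algebraMap_apply, antipodeEnv_algebraMap]
  | hL x => simp [comulEnv_e, counitEnv_e, antipodeEnv_e, antipodeEnv_one]
  | hm u v hu hv =>
    have key : ∀ t s : E ⊗[k] E, LinearMap.mul' k E ((antipodeEnv b φ).rTensor E t) = algebraMap k E (counitEnv b φ u) →
        LinearMap.mul' k E ((antipodeEnv b φ).rTensor E (t * s)) =
          algebraMap k E (counitEnv b φ u) * LinearMap.mul' k E ((antipodeEnv b φ).rTensor E s) := by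
      intro t s ht
      induction s using TensorProduct.induction_on with
      | zero => simp
      | tmul v1 v2 =>
        have h2 : ∀ t : E ⊗[k] E, LinearMap.mul' k E ((antipodeEnv b φ).rTensor E (t * v1 ⊗ₜ v2)) =
            antipodeEnv b φ v1 * LinearMap.mul' k E ((antipodeEnv b φ).rTensor E t) * v2 := by
          intro t
          induction t using TensorProduct.induction_on with
          | zero => simp
          | tmul a c => simp [Algebra.TensorProduct.tmul_mul_tmul, antipodeEnv_mul, mul_assoc]
          | add a c ha hc => simp only [add_mul, map_add, ha, hc, mul_add]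
        rw [h2, ht, LinearMap.rTensor_tmul, LinearMap.mul'_apply, ← Algebra.commutes, mul_assoc]
      | add a c ha hc => simp only [mul_add, map_add, ha, hc]
    rw [map_mul, key _ _ hu, hv, map_mul, map_mul]
  | ha u v hu hv => simp only [map_add, hu, hv]

omit [LinearOrder ι] [Fintype ι] in
theorem mul_antipodeEnv_lTensor (u : E) : LinearMap.mul' k E ((antipodeEnv b φ).lTensor E (comulEnv b φ u)) =
    algebraMap k E (counitEnv b φ u) := by
  induction u using env_induction b φ with
  | hs r => simp [Algebra.TensorProduct.algebraMap_apply, antipodeEnv_one]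
  | hL x => simp [comulEnv_e, counitEnv_e, antipodeEnv_e, antipodeEnv_one]
  | hm u v hu hv =>
    have key : ∀ t s : E ⊗[k] E, LinearMap.mul' k E ((antipodeEnv b φ).lTensor E s) = algebraMap k E (counitEnv b φ v) →
        LinearMap.mul' k E ((antipodeEnv b φ).lTensor E (t * s)) =
          LinearMap.mul' k E ((antipodeEnv b φ).lTensor E t) * algebraMap k E (counitEnv b φ v) := by
      intro t s hs
      induction t using TensorProduct.induction_on with
      | zero => simp
      | tmul u1 u2 =>
        have h2 : ∀ s : E ⊗[k] E, LinearMap.mul' k E ((antipodeEnv b φ).lTensor E (u1 ⊗ₜ u2 * s)) =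
            u1 * LinearMap.mul' k E ((antipodeEnv b φ).lTensor E s) * antipodeEnv b φ u2 := by
          intro s
          induction s using TensorProduct.induction_on with
          | zero => simp
          | tmul a c => simp [Algebra.TensorProduct.tmul_mul_tmul, antipodeEnv_mul, mul_assoc]
          | add a c ha hc => simp only [mul_add, map_add, ha, hc, add_mul]
        rw [h2, hs, LinearMap.lTensor_tmul, LinearMap.mul'_apply, mul_assoc, Algebra.commutes, mul_assoc]
      | add a c ha hc => simp only [add_mul, map_add, ha, hc]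
    rw [map_mul, key _ _ hv, hu, map_mul, map_mul]
  | ha u v hu hv => simp only [map_add, hu, hv]

noncomputable instance instHopfAlgebra : HopfAlgebra k E where
  toBialgebra := instBialgebra b φ
  antipode := antipodeEnv b φ
  mul_antipode_rTensor_comul := LinearMap.ext fun u => mul_antipodeEnv_rTensor b φ u
  mul_antipode_lTensor_comul := LinearMap.ext fun u => mul_antipodeEnv_lTensor b φ u

instance : Coalgebra.IsCocomm k E where
  comm_comp_comul := by
    have h : (Algebra.TensorProduct.comm k E E).toAlgHom.comp (comulEnv b φ) = comulEnv b φ :=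
      algHom_ext b φ fun x => by simp [comulEnv_e, add_comm]
    exact congr(($h).toLinearMap)

end Groth.Agent.RestrictedHopf
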