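import Groth.Agent.RestrictedHopf.Hopf
import Mathlib.RingTheory.Coalgebra.Basic

/-! The primitive elements of the restricted enveloping algebra are the restricted Lie algebra. -/

universe u v w

open Groth.Agent.PBW Groth.Agent.PLieLib TensorProduct

namespace Groth.Agent.RestrictedHopf

variable {k : Type u} [Field k] {L : Type v} [LieRing L] [LieAlgebra k L]
  {ι : Type w} [LinearOrder ι] [Fintype ι] (b : Module.Basis ι k L) {p : ℕ} [Fact p.Prime] [CharP k p]
  (φ : PLie.PMap k p L)

local notation "E" => Env b φ

/-- The ordered monomial of a list. -/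
noncomputable def monoL (l : List ι) : E := (l.map fun i => e b φ (b i)).prod

omit [LinearOrder ι] [Fintype ι] in
theorem monoL_cons (x : ι) (l : List ι) : monoL b φ (x :: l) = e b φ (b x) * monoL b φ l := by simp [monoL]

theorem smallBasis_eq (m : Small ι p) : smallBasis b φ m = monoL b φ (m.1.sort) := by
  rw [smallBasis_apply, mono, map_list_prod, List.map_map]
  rfl

/-- Contract the left factor of the comultiplication. -/
noncomputable def contract (ψ : E →ₗ[k] k) : E →ₗ[k] E :=
  (TensorProduct.lid k E).toLinearMap ∘ₗ ψ.rTensor E ∘ₗ Coalgebra.comul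

omit [LinearOrder ι] [Fintype ι] in
theorem contract_cons (ψ : E →ₗ[k] k) (x : ι) (l : List ι) :
    contract b φ ψ (monoL b φ (x :: l)) =
      contract b φ (ψ ∘ₗ LinearMap.mulLeft k (e b φ (b x))) (monoL b φ l) + e b φ (b x) * contract b φ ψ (monoL b φ l) := by
  simp only [contract, LinearMap.comp_apply, monoL_cons, Bialgebra.comul_mul, comul_e]
  generalize Coalgebra.comul (R := k) (monoL b φ l) = t
  induction t using TensorProduct.induction_on with
  | zero => simp
  | tmul a c => simp [add_mul, Algebra.TensorProduct.tmul_mul_tmul]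
  | add s t hs ht =>
    simp only [mul_add, map_add, hs, ht]
    abel

omit [LinearOrder ι] [Fintype ι] in
theorem contract_eq_smul {l : List ι} : ∀ ψ : E →ₗ[k] k, (∀ s : List ι, s.Sublist l → s ≠ [] → ψ (monoL b φ s) = 0) →
    contract b φ ψ (monoL b φ l) = ψ 1 • monoL b φ l := by
  induction l with
  | nil =>
    intro ψ _
    simp [contract, monoL, Bialgebra.comul_one, Algebra.TensorProduct.one_def]
  | cons x l ih =>
    intro ψ h
    rw [contract_cons, ih ψ fun s hs hne => h s (hs.cons x) hne, ih _ fun s hs _ => ?_, LinearMap.comp_apply,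
      LinearMap.mulLeft_apply, mul_one]
    · rw [show e b φ (b x) = monoL b φ [x] by simp [monoL], h [x] (List.singleton_sublist.mpr (List.mem_cons_self ..)) (by simp),
        zero_smul, zero_add, mul_smul_comm]
      simp [monoL_cons, monoL]
    · rw [LinearMap.comp_apply, LinearMap.mulLeft_apply, ← monoL_cons]
      exact h _ (hs.cons_cons x) (by simp)

/-- The coordinate at a monomial of degree one. -/
noncomputable def delta (i : ι) : E →ₗ[k] k :=
  (smallBasis b φ).coord ⟨{i}, fun j => by
    classical
    rw [Multiset.count_singleton]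
    split_ifs
    · exact (Fact.out : p.Prime).one_lt
    · exact (Fact.out : p.Prime).pos⟩

theorem monoL_eq_smallBasis {l : List ι} (hl : l.SortedLE) (hc : ∀ i, (l : Multiset ι).count i < p) :
    monoL b φ l = smallBasis b φ ⟨(l : Multiset ι), hc⟩ := by
  have h : (l : Multiset ι).sort = l := congrArg Subtype.val (wordOf_coe ⟨l, hl⟩)
  rw [smallBasis_eq, h]

theorem delta_monoL (i : ι) {l : List ι} (hl : l.SortedLE) (hc : ∀ i, (l : Multiset ι).count i < p) :
    delta b φ i (monoL b φ l) = if l = [i] then 1 else 0 := by
  classical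
  rw [monoL_eq_smallBasis b φ hl hc, delta, Module.Basis.coord_apply, Module.Basis.repr_self, Finsupp.single_apply]
  simp only [Subtype.mk.injEq, ← Multiset.coe_singleton, Multiset.coe_eq_coe, List.perm_singleton]

theorem delta_e (i j : ι) : delta b φ i (e b φ (b j)) = if j = i then 1 else 0 := by
  classical
  have hc : ∀ a, ((([j] : List ι)) : Multiset ι).count a < p := fun a => by
    rw [Multiset.coe_singleton, Multiset.count_singleton]
    split_ifs
    · exact (Fact.out : p.Prime).one_lt
    · exact (Fact.out : p.Prime).pos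
  have h := delta_monoL b φ i (List.pairwise_singleton _ j).sortedLE hc
  simpa [monoL] using h

theorem delta_one (i : ι) : delta b φ i 1 = 0 := by
  have h := delta_monoL b φ i (l := []) List.Pairwise.nil.sortedLE (fun _ => by simp [(Fact.out : p.Prime).pos])
  simpa [monoL] using h

theorem contract_delta (i : ι) : ∀ {l : List ι}, l.SortedLE → (∀ a, (l : Multiset ι).count a < p) →
    contract b φ (delta b φ i) (monoL b φ l) =
      (((l : Multiset ι).count i : ℕ) : k) • monoL b φ (((l : Multiset ι).erase i).sort) := by
  classical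
  intro l
  induction l with
  | nil =>
    intro _ _
    simp [contract, monoL, Bialgebra.comul_one, Algebra.TensorProduct.one_def, delta_one]
  | cons x l ih =>
    intro hl hc
    have hl' : l.SortedLE := hl.pairwise.of_cons.sortedLE
    have hc' : ∀ a, (l : Multiset ι).count a < p := fun a =>
      lt_of_le_of_lt (Multiset.count_le_of_le a (by rw [← Multiset.cons_coe]; exact Multiset.le_cons_self _ _)) (hc a)
    have hx : ∀ a ∈ l, x ≤ a := (List.pairwise_cons.mp hl.pairwise).1
    have hfirst : contract b φ (delta b φ i ∘ₗ LinearMap.mulLeft k (e b φ (b x))) (monoL b φ l) =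
        (if x = i then (1 : k) else 0) • monoL b φ l := by
      rw [contract_eq_smul b φ _ fun s hs hne => ?_, LinearMap.comp_apply, LinearMap.mulLeft_apply, mul_one, delta_e]
      rw [LinearMap.comp_apply, LinearMap.mulLeft_apply, ← monoL_cons, delta_monoL b φ i
        ((hl.pairwise.sublist (hs.cons_cons x)).sortedLE) fun a => lt_of_le_of_lt
          (Multiset.count_le_of_le a (Multiset.coe_le.mpr (hs.cons_cons x).subperm)) (hc a)]
      simp [hne]
    rw [contract_cons, hfirst, ih hl' hc', mul_smul_comm]
    have hsort : ∀ m : Multiset ι, (∀ a ∈ m, x ≤ a) → e b φ (b x) * monoL b φ m.sort = monoL b φ (x ::ₘ m).sort :=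
      fun m hm => by rw [Multiset.sort_cons _ _ _ hm, monoL_cons]
    rcases eq_or_ne x i with rfl | hne
    · rw [if_pos rfl, one_smul, ← Multiset.cons_coe, Multiset.erase_cons_head, Multiset.count_cons_self, Nat.cast_succ,
        add_smul, one_smul, add_comm]
      congr 1
      · by_cases hmem : x ∈ l
        · rw [hsort _ fun a ha => hx a (Multiset.mem_coe.mp (Multiset.mem_of_mem_erase ha)),
            Multiset.cons_erase (Multiset.mem_coe.mpr hmem)]
        · rw [Multiset.count_eq_zero.mpr (by simpa using hmem), Nat.cast_zero, zero_smul, zero_smul]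
      · rw [show (l : Multiset ι).sort (· ≤ ·) = l from congrArg Subtype.val (wordOf_coe ⟨l, hl'⟩)]
    · rw [if_neg hne, zero_smul, zero_add, ← Multiset.cons_coe, Multiset.count_cons_of_ne hne.symm,
        Multiset.erase_cons_tail _ hne, hsort _ fun a ha => hx a (Multiset.mem_coe.mp (Multiset.mem_of_mem_erase ha))]

theorem mem_range_e_of_primitive {t : E} (ht : Coalgebra.comul t = t ⊗ₜ[k] (1 : E) + (1 : E) ⊗ₜ[k] t) :
    t ∈ LinearMap.range (e b φ) := by
  classical
  have hp : p.Prime := Fact.out
  haveI : Fintype (Small ι p) := Fintype.ofFinite _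
  let B := smallBasis b φ
  have hε : Coalgebra.counit (R := k) t = 0 := by
    have h := congrArg (fun z => Coalgebra.counit (R := k) (TensorProduct.lid k E z))
      (Coalgebra.rTensor_counit_comul (R := k) t)
    simp [ht, map_add] at h
    linear_combination h
  have key : ∀ (i : ι) (m : Small ι p), 2 ≤ m.1.card → i ∈ m.1 → B.repr t m = 0 := by
    intro i m hm hi
    have hc : contract b φ (delta b φ i) t = delta b φ i t • (1 : E) := by simp [contract, ht, delta_one]
    have hcard : (m.1.erase i).card + 1 = m.1.card := Multiset.card_erase_add_one hi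
    let m' : Small ι p := ⟨m.1.erase i, fun a => lt_of_le_of_lt (Multiset.count_le_of_le a (Multiset.erase_le i _)) (m.2 a)⟩
    have hone : (1 : E) = B ⟨0, fun a => by simp [hp.pos]⟩ := by rw [smallBasis_eq]; simp [monoL]
    have hexp : contract b φ (delta b φ i) t =
        ∑ x : Small ι p, (B.repr t x * ((x.1.count i : ℕ) : k)) •
          B ⟨x.1.erase i, fun a => lt_of_le_of_lt (Multiset.count_le_of_le a (Multiset.erase_le i _)) (x.2 a)⟩ := by
      conv_lhs => rw [← B.sum_repr t]
      rw [map_sum]
      refine Finset.sum_congr rfl fun x _ => ?_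
      rw [map_smul, smallBasis_eq]
      have h := contract_delta b φ i (l := x.1.sort (· ≤ ·)) (wordOf x.1).2 (by rw [Multiset.sort_eq]; exact x.2)
      rw [Multiset.sort_eq] at h
      rw [h, smul_smul, smallBasis_eq]
    have h := congrArg (fun z => B.repr z m') (hc.symm.trans hexp)
    simp only [hone, map_smul, Module.Basis.repr_self, map_sum, Finsupp.smul_apply, Finsupp.finsetSum_apply,
      Finsupp.single_apply, smul_eq_mul, Subtype.mk.injEq, m'] at h
    rw [if_neg, mul_zero, Finset.sum_eq_single m] at h
    · rw [if_pos rfl, mul_one] at h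
      refine (mul_eq_zero.mp h.symm).resolve_right ?_
      rw [CharP.cast_eq_zero_iff k p]
      exact fun hd => absurd (Nat.le_of_dvd (Multiset.count_pos.mpr hi) hd) (not_le.mpr (m.2 i))
    · intro x _ hx
      by_cases hix : i ∈ x.1
      · rw [if_neg, mul_zero]
        exact fun h => hx (Subtype.ext (by rw [← Multiset.cons_erase hix, h, Multiset.cons_erase hi]))
      · rw [Multiset.count_eq_zero.mpr hix, Nat.cast_zero, mul_zero, zero_mul]
    · simp
    · intro h0
      have := congrArg Multiset.card h0
      simp at this
      omega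
  have hunit : ∀ m : Small ι p, m.1.card ≥ 2 → B.repr t m = 0 := fun m hm => by
    obtain ⟨i, hi⟩ := Multiset.exists_mem_of_ne_zero (s := m.1) (fun h => by simp [h] at hm)
    exact key i m hm hi
  let z : Small ι p := ⟨0, fun a => by simp [hp.pos]⟩
  have hεB : ∀ m : Small ι p, Coalgebra.counit (R := k) (B m) = if m = z then 1 else 0 := fun m => by
    rw [smallBasis_eq]
    rcases hl : m.1.sort with _ | ⟨x, l⟩
    · have : m = z := Subtype.ext (by
        show m.1 = 0
        rw [← Multiset.sort_eq m.1 (· ≤ ·), hl]; rfl)
      simp [monoL, this, z]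
    · rw [hl, monoL_cons, Bialgebra.counit_mul, counit_e, zero_mul, if_neg fun h => by
        rw [h] at hl; simp [z] at hl]
  rw [← B.sum_repr t]
  refine Submodule.sum_mem _ fun m _ => ?_
  rcases hl : m.1.card with _ | _ | n
  · have hmz : m = z := Subtype.ext (Multiset.card_eq_zero.mp hl)
    have h0 := congrArg (Coalgebra.counit (R := k)) (B.sum_repr t)
    rw [hε, map_sum, Finset.sum_eq_single z] at h0
    · rw [map_smul, hεB, if_pos rfl, smul_eq_mul, mul_one] at h0
      rw [hmz, h0, zero_smul]
      exact zero_mem _
    · intro x _ hx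
      rw [map_smul, hεB, if_neg hx, smul_zero]
    · simp
  · obtain ⟨i, hi⟩ := Multiset.card_eq_one.mp hl
    refine ⟨B.repr t m • b i, ?_⟩
    rw [map_smul, smallBasis_eq, hi]
    simp [monoL]
  · rw [hunit m (by omega), zero_smul]
    exact zero_mem _

theorem e_injective : Function.Injective (e b φ) := by
  classical
  rw [injective_iff_map_eq_zero]
  intro x hx
  refine b.ext_elem fun i => ?_
  have h := congrArg (delta b φ i) hx
  rw [← b.sum_repr x, map_sum, map_sum, map_zero] at h
  simpa [map_smul, delta_e] using h

end Groth.Agent.RestrictedHopf
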